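import Mathlib

/-!
# Effective zero-cycles on a set of points with norms: counting, Dirichlet inverse (helper19)

`P` is a type of "points", `N : P → ℕ` their norms (`≥ 2`), with finitely many points of bounded
norm.  A cycle is `α : P →₀ ℕ`, with norm `nm N α = ∏ N x ^ α x`.
-/

set_option autoImplicit false

namespace Groth.Agent.Helper19.ZetaAbs

open Finset

variable {P : Type*} (N : P → ℕ)

/-- The norm of a cycle. -/
def nm (α : P →₀ ℕ) : ℕ := α.prod (fun x m => N x ^ m)

theorem nm_zero : nm N 0 = 1 := Finsupp.prod_zero_index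

theorem nm_add (α β : P →₀ ℕ) : nm N (α + β) = nm N α * nm N β :=
  Finsupp.prod_add_index' (fun _ => pow_zero _) (fun _ _ _ => pow_add _ _ _)

variable {N}

theorem nm_pos (h2 : ∀ x, 2 ≤ N x) (α : P →₀ ℕ) : 0 < nm N α := by
  unfold nm Finsupp.prod
  exact Finset.prod_pos fun x _ => pow_pos (by have := h2 x; omega) _

theorem pow_dvd_nm (α : P →₀ ℕ) (x : P) : N x ^ α x ∣ nm N α := by
  classical
  by_cases hx : x ∈ α.support
  · unfold nm Finsupp.prod
    exact Finset.dvd_prod_of_mem (fun x => N x ^ α x) hx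
  · rw [Finsupp.notMem_support_iff.mp hx, pow_zero]
    exact one_dvd _

theorem apply_lt_nm (h2 : ∀ x, 2 ≤ N x) (α : P →₀ ℕ) (x : P) : α x < nm N α := by
  have h1 : N x ^ α x ≤ nm N α := Nat.le_of_dvd (nm_pos h2 α) (pow_dvd_nm α x)
  have h3 : 2 ^ α x ≤ N x ^ α x := Nat.pow_le_pow_left (h2 x) _
  exact lt_of_lt_of_le (Nat.lt_two_pow_self) (h3.trans h1)

theorem norm_le_nm (h2 : ∀ x, 2 ≤ N x) (α : P →₀ ℕ) {x : P} (hx : x ∈ α.support) :
    N x ≤ nm N α := by
  have h1 : N x ^ α x ≤ nm N α := Nat.le_of_dvd (nm_pos h2 α) (pow_dvd_nm α x)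
  have h3 : α x ≠ 0 := Finsupp.mem_support_iff.mp hx
  calc N x = N x ^ 1 := (pow_one _).symm
    _ ≤ N x ^ α x := Nat.pow_le_pow_right (by have := h2 x; omega) (Nat.one_le_iff_ne_zero.mpr h3)
    _ ≤ nm N α := h1

theorem nm_eq_one_iff (h2 : ∀ x, 2 ≤ N x) (α : P →₀ ℕ) : nm N α = 1 ↔ α = 0 := by
  constructor
  · intro h
    ext x
    have := apply_lt_nm h2 α x
    rw [h] at this
    simpa using Nat.lt_one_iff.mp this
  · rintro rfl
    exact nm_zero N

/-- The cycles of a given norm form a finite set. -/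
theorem fib_finite (h2 : ∀ x, 2 ≤ N x) (hfin : ∀ n, {x | N x ≤ n}.Finite) (n : ℕ) :
    {α : P →₀ ℕ | nm N α = n}.Finite := by
  classical
  refine Set.Finite.subset
    (((hfin n).toFinset.finsupp (fun _ => Finset.range (n + 1))).finite_toSet) ?_
  intro α hα
  simp only [Set.mem_setOf_eq] at hα
  simp only [Finset.mem_coe, Finset.mem_finsupp_iff, Finset.mem_range]
  constructor
  · intro x hx
    simp only [Set.Finite.mem_toFinset, Set.mem_setOf_eq]
    exact hα ▸ norm_le_nm h2 α hx
  · intro x _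
    have := apply_lt_nm h2 α x
    omega

section Inverse

/-- The Möbius-type weight of a cycle: `(-1)^{#support}` on multiplicity-free cycles, `0` else. -/
noncomputable def wt (γ : P →₀ ℕ) : ℤ := by
  classical exact if ∀ x, γ x ≤ 1 then (-1) ^ γ.support.card else 0

theorem wt_of_le (γ : P →₀ ℕ) (h : ∀ x, γ x ≤ 1) : wt γ = (-1) ^ γ.support.card := by
  classical
  unfold wt
  rw [if_pos h]

theorem wt_of_not_le (γ : P →₀ ℕ) (h : ¬ ∀ x, γ x ≤ 1) : wt γ = 0 := by
  classical
  unfold wt
  rw [if_neg h]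

theorem le_of_wt_ne_zero (γ : P →₀ ℕ) (h : wt γ ≠ 0) : ∀ x, γ x ≤ 1 := by
  by_contra h'
  exact h (wt_of_not_le γ h')

theorem abs_wt_le (γ : P →₀ ℕ) : |wt γ| ≤ 1 := by
  by_cases h : ∀ x, γ x ≤ 1
  · rw [wt_of_le γ h, abs_pow, abs_neg, abs_one, one_pow]
  · rw [wt_of_not_le γ h, abs_zero]
    exact zero_le_one

open scoped Classical in
theorem sum_antidiagonal_wt (α : P →₀ ℕ) :
    ∑ p ∈ Finset.HasAntidiagonal.antidiagonal α, wt p.2 = if α = 0 then 1 else 0 := by
  have key : ∑ p ∈ Finset.HasAntidiagonal.antidiagonal α, wt p.2 =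
      ∑ T ∈ α.support.powerset, (-1 : ℤ) ^ T.card := by
    refine Finset.sum_bij_ne_zero (fun p _ _ => p.2.support) ?_ ?_ ?_ ?_
    · intro p hp _
      rw [Finset.mem_powerset]
      rw [Finset.HasAntidiagonal.mem_antidiagonal] at hp
      intro x hx
      rw [Finsupp.mem_support_iff] at hx ⊢
      rw [← hp, Finsupp.add_apply]
      omega
    · intro p hp hp0 p' hp' hp0' hsupp
      have hle := le_of_wt_ne_zero _ hp0
      have hle' := le_of_wt_ne_zero _ hp0'
      have h2eq : p.2 = p'.2 := by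
        ext x
        by_cases hx : x ∈ p.2.support
        · have hx' : x ∈ p'.2.support := hsupp ▸ hx
          have h1 := Finsupp.mem_support_iff.mp hx
          have h2 := Finsupp.mem_support_iff.mp hx'
          have h3 := hle x
          have h4 := hle' x
          omega
        · have hx' : x ∉ p'.2.support := hsupp ▸ hx
          rw [Finsupp.notMem_support_iff.mp hx, Finsupp.notMem_support_iff.mp hx']
      rw [Finset.HasAntidiagonal.mem_antidiagonal] at hp hp'
      have h1eq : p.1 = p'.1 := by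
        have h5 := hp.trans hp'.symm
        rw [h2eq] at h5
        exact add_right_cancel h5
      exact Prod.ext h1eq h2eq
    · intro T hT _
      rw [Finset.mem_powerset] at hT
      have hγ : ∀ x, (Finsupp.indicator T (fun _ _ => 1) : P →₀ ℕ) x = if x ∈ T then 1 else 0 :=
        fun x => by
          rw [Finsupp.indicator_apply]
          split_ifs <;> rfl
      have hγle : (Finsupp.indicator T (fun _ _ => 1) : P →₀ ℕ) ≤ α := by
        intro x
        rw [hγ]
        split_ifs with hx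
        · exact Nat.one_le_iff_ne_zero.mpr (Finsupp.mem_support_iff.mp (hT hx))
        · exact Nat.zero_le _
      have hsupp : (Finsupp.indicator T (fun _ _ => 1) : P →₀ ℕ).support = T := by
        ext x
        rw [Finsupp.mem_support_iff, hγ]
        split_ifs with hx <;> simp [hx]
      have hle1 : ∀ x, (Finsupp.indicator T (fun _ _ => 1) : P →₀ ℕ) x ≤ 1 := by
        intro x
        rw [hγ]
        split_ifs <;> omega
      refine ⟨(α - Finsupp.indicator T (fun _ _ => 1), Finsupp.indicator T (fun _ _ => 1)),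
        ?_, ?_, hsupp⟩
      · rw [Finset.HasAntidiagonal.mem_antidiagonal]
        exact tsub_add_cancel_of_le hγle
      · rw [wt_of_le _ hle1]
        exact pow_ne_zero _ (by norm_num)
    · intro p _ hp0
      exact wt_of_le _ (le_of_wt_ne_zero _ hp0)
  rw [key, Finset.sum_powerset_neg_one_pow_card]
  simp [Finsupp.support_eq_empty]

end Inverse

section Conv

variable (h2 : ∀ x, 2 ≤ N x) (hfin : ∀ n, {x | N x ≤ n}.Finite)

/-- The cycles of norm `n`, as a finset. -/
noncomputable def fib (n : ℕ) : Finset (P →₀ ℕ) := (fib_finite h2 hfin n).toFinset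

theorem mem_fib {n : ℕ} {α : P →₀ ℕ} : α ∈ fib h2 hfin n ↔ nm N α = n := by
  simp [fib]

theorem card_fib (n : ℕ) : (fib h2 hfin n).card = Nat.card {α : P →₀ ℕ // nm N α = n} := by
  have h1 := Set.ncard_eq_toFinset_card _ (fib_finite h2 hfin n)
  have h3 := Nat.card_coe_set_eq {α : P →₀ ℕ | nm N α = n}
  exact (h1.symm.trans h3.symm)

/-- The coefficients of the inverse Dirichlet series. -/
noncomputable def bco (n : ℕ) : ℤ := ∑ γ ∈ fib h2 hfin n, wt γ

theorem abs_bco_le (n : ℕ) : |bco h2 hfin n| ≤ (fib h2 hfin n).card := by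
  unfold bco
  calc |∑ γ ∈ fib h2 hfin n, wt γ| ≤ ∑ γ ∈ fib h2 hfin n, |wt γ| := Finset.abs_sum_le_sum_abs _ _
    _ ≤ ∑ _γ ∈ fib h2 hfin n, (1 : ℤ) := Finset.sum_le_sum fun γ _ => abs_wt_le γ
    _ = (fib h2 hfin n).card := by simp

open scoped Classical in
theorem conv_identity (n : ℕ) (hn : n ≠ 0) :
    ∑ de ∈ n.divisorsAntidiagonal, ((fib h2 hfin de.1).card : ℤ) * bco h2 hfin de.2 =
      if n = 1 then 1 else 0 := by
  have hL : ∑ de ∈ n.divisorsAntidiagonal, ((fib h2 hfin de.1).card : ℤ) * bco h2 hfin de.2 =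
      ∑ q ∈ n.divisorsAntidiagonal.biUnion (fun de => fib h2 hfin de.1 ×ˢ fib h2 hfin de.2),
        wt q.2 := by
    rw [Finset.sum_biUnion]
    · refine Finset.sum_congr rfl fun de _ => ?_
      rw [Finset.sum_product, bco]
      simp [Finset.sum_const, nsmul_eq_mul]
    · intro de _ de' _ hne
      simp only [Function.onFun]
      rw [Finset.disjoint_left]
      intro q hq hq'
      rw [Finset.mem_product, mem_fib, mem_fib] at hq hq'
      exact hne (Prod.ext (hq.1.symm.trans hq'.1) (hq.2.symm.trans hq'.2))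
  have hR : ∑ α ∈ fib h2 hfin n, ∑ q ∈ Finset.HasAntidiagonal.antidiagonal α, wt q.2 =
      ∑ q ∈ (fib h2 hfin n).biUnion (fun α => Finset.HasAntidiagonal.antidiagonal α),
        wt q.2 := by
    rw [Finset.sum_biUnion]
    intro α _ α' _ hne
    simp only [Function.onFun]
    rw [Finset.disjoint_left]
    intro q hq hq'
    rw [Finset.HasAntidiagonal.mem_antidiagonal] at hq hq'
    exact hne (hq.symm.trans hq')
  have hQ : n.divisorsAntidiagonal.biUnion (fun de => fib h2 hfin de.1 ×ˢ fib h2 hfin de.2) =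
      (fib h2 hfin n).biUnion (fun α => Finset.HasAntidiagonal.antidiagonal α) := by
    ext q
    simp only [Finset.mem_biUnion, Finset.mem_product, mem_fib,
      Finset.HasAntidiagonal.mem_antidiagonal, Nat.mem_divisorsAntidiagonal]
    constructor
    · rintro ⟨de, ⟨hde, _⟩, h1, h3⟩
      exact ⟨q.1 + q.2, by rw [nm_add, h1, h3, hde], rfl⟩
    · rintro ⟨α, hα, hq⟩
      refine ⟨(nm N q.1, nm N q.2), ⟨?_, hn⟩, rfl, rfl⟩
      rw [← nm_add, hq, hα]
  rw [hL, hQ, ← hR]
  rw [Finset.sum_congr rfl (fun α _ => sum_antidiagonal_wt α)]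
  rw [Finset.sum_ite_eq']
  · by_cases h1 : n = 1
    · rw [if_pos h1, if_pos]
      rw [mem_fib, nm_zero, h1]
    · rw [if_neg h1, if_neg]
      rw [mem_fib, nm_zero]
      exact fun h => h1 h.symm

end Conv

end Groth.Agent.Helper19.ZetaAbs
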