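import Mathlib

/-!
# Summability of `∑_x N(x)^{-σ}` from point-count bounds (helper19)
-/

set_option autoImplicit false

namespace Groth.Agent.Helper19.ZetaAbs

open Finset

variable {P : Type*} (N : P → ℕ)

theorem finite_le_of_finite_eq (hfinq : ∀ q : ℕ, {x | N x = q}.Finite) (n : ℕ) :
    {x | N x ≤ n}.Finite := by
  have : {x | N x ≤ n} = ⋃ q ∈ (Finset.range (n + 1) : Set ℕ), {x | N x = q} := by
    ext x
    simp only [Set.mem_setOf_eq, Finset.coe_range, Set.mem_Iio, Set.mem_iUnion, exists_prop]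
    constructor
    · intro h
      exact ⟨N x, by omega, rfl⟩
    · rintro ⟨q, hq, rfl⟩
      omega
  rw [this]
  exact Set.Finite.biUnion (Finset.finite_toSet _) (fun q _ => hfinq q)

open scoped Classical in
/-- Summability of `q ↦ c q^e` over the powers of a fixed prime, `e < 0`. -/
theorem summable_prime_powers (p : ℕ) (hp : 2 ≤ p) (c e : ℝ) (he : e < 0) :
    Summable (fun q : ℕ => if q ∈ Set.range (fun m : ℕ => p ^ m) then c * (q : ℝ) ^ e else 0) := by
  have hinj : Function.Injective (fun m : ℕ => p ^ m) := Nat.pow_right_injective hp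
  rw [← hinj.summable_iff (fun q hq => if_neg hq)]
  have hp1 : (1 : ℝ) < p := by exact_mod_cast hp
  have hρ : (p : ℝ) ^ e < 1 := Real.rpow_lt_one_of_one_lt_of_neg hp1 he
  have hρ0 : 0 ≤ (p : ℝ) ^ e := Real.rpow_nonneg (Nat.cast_nonneg _) _
  have h1 := (summable_geometric_of_lt_one hρ0 hρ).mul_left c
  refine h1.congr (fun m => ?_)
  simp only [Function.comp_apply]
  rw [if_pos ⟨m, rfl⟩]
  congr 1
  push_cast
  rw [← Real.rpow_natCast, ← Real.rpow_natCast, ← Real.rpow_mul (Nat.cast_nonneg _),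
    ← Real.rpow_mul (Nat.cast_nonneg _), mul_comm]

/-- **Summability of `∑ N(x)^{-σ}` for `σ > r`** from bounds on the number of points of
prime-power norm: `≤ c q^{r-1}` for the large primes and `≤ c q^r` for all primes. -/
theorem summable_norm_rpow (r : ℕ) (c : ℝ) (p₀ : ℕ) (hc : 0 ≤ c)
    (hpp : ∀ x, IsPrimePow (N x))
    (hfinq : ∀ q : ℕ, {x | N x = q}.Finite)
    (hbig : ∀ p m : ℕ, p.Prime → 1 ≤ m → p₀ ≤ p →
      (({x | N x = p ^ m}.ncard : ℝ)) ≤ c * ((p ^ m : ℕ) : ℝ) ^ ((r : ℝ) - 1))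
    (hall : ∀ p m : ℕ, p.Prime → 1 ≤ m →
      (({x | N x = p ^ m}.ncard : ℝ)) ≤ c * ((p ^ m : ℕ) : ℝ) ^ (r : ℝ))
    (σ : ℝ) (hσ : (r : ℝ) < σ) :
    Summable (fun x => (N x : ℝ) ^ (-σ)) := by
  classical
  -- the comparison series
  have hg1 : Summable (fun q : ℕ => c * (q : ℝ) ^ ((r : ℝ) - 1 - σ)) :=
    (Real.summable_nat_rpow.mpr (by linarith)).mul_left c
  have hg2 : Summable (fun q : ℕ => ∑ p ∈ (Finset.range p₀).filter Nat.Prime,
      (if q ∈ Set.range (fun m : ℕ => p ^ m) then c * (q : ℝ) ^ ((r : ℝ) - σ) else 0)) := by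
    refine summable_sum (fun p hp => ?_)
    exact summable_prime_powers p (Finset.mem_filter.mp hp).2.two_le c ((r : ℝ) - σ) (by linarith)
  have hg := hg1.add hg2
  -- the series over `q`
  have hq : Summable (fun q : ℕ => ({x | N x = q}.ncard : ℝ) * (q : ℝ) ^ (-σ)) := by
    refine Summable.of_nonneg_of_le (fun q => mul_nonneg (Nat.cast_nonneg _)
      (Real.rpow_nonneg (Nat.cast_nonneg _) _)) (fun q => ?_) hg
    have hterm2 : ∀ p ∈ (Finset.range p₀).filter Nat.Prime,
        (0 : ℝ) ≤ (if q ∈ Set.range (fun m : ℕ => p ^ m) then c * (q : ℝ) ^ ((r : ℝ) - σ)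
          else 0) := by
      intro p _
      split_ifs
      · exact mul_nonneg hc (Real.rpow_nonneg (Nat.cast_nonneg _) _)
      · exact le_rfl
    have hterm1 : (0 : ℝ) ≤ c * (q : ℝ) ^ ((r : ℝ) - 1 - σ) :=
      mul_nonneg hc (Real.rpow_nonneg (Nat.cast_nonneg _) _)
    by_cases hqpp : IsPrimePow q
    · obtain ⟨p, m, hp, hm, rfl⟩ := (isPrimePow_nat_iff q).mp hqpp
      have hqpos : (0 : ℝ) < ((p ^ m : ℕ) : ℝ) := by exact_mod_cast pow_pos hp.pos m
      have hσnn : 0 ≤ ((p ^ m : ℕ) : ℝ) ^ (-σ) := Real.rpow_nonneg hqpos.le _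
      by_cases hpp₀ : p₀ ≤ p
      · have h1 := hbig p m hp hm hpp₀
        calc ({x | N x = p ^ m}.ncard : ℝ) * ((p ^ m : ℕ) : ℝ) ^ (-σ)
            ≤ (c * ((p ^ m : ℕ) : ℝ) ^ ((r : ℝ) - 1)) * ((p ^ m : ℕ) : ℝ) ^ (-σ) :=
              mul_le_mul_of_nonneg_right h1 hσnn
          _ = c * ((p ^ m : ℕ) : ℝ) ^ ((r : ℝ) - 1 - σ) := by
              rw [mul_assoc, ← Real.rpow_add hqpos]
              congr 2
          _ ≤ _ := le_add_of_nonneg_right (Finset.sum_nonneg hterm2)
      · have h1 := hall p m hp hm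
        have hmem : p ∈ (Finset.range p₀).filter Nat.Prime :=
          Finset.mem_filter.mpr ⟨Finset.mem_range.mpr (by omega), hp⟩
        calc ({x | N x = p ^ m}.ncard : ℝ) * ((p ^ m : ℕ) : ℝ) ^ (-σ)
            ≤ (c * ((p ^ m : ℕ) : ℝ) ^ (r : ℝ)) * ((p ^ m : ℕ) : ℝ) ^ (-σ) :=
              mul_le_mul_of_nonneg_right h1 hσnn
          _ = c * ((p ^ m : ℕ) : ℝ) ^ ((r : ℝ) - σ) := by
              rw [mul_assoc, ← Real.rpow_add hqpos]
              congr 2
          _ = (if (p ^ m) ∈ Set.range (fun m : ℕ => p ^ m) then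
                c * ((p ^ m : ℕ) : ℝ) ^ ((r : ℝ) - σ) else 0) := by
              rw [if_pos ⟨m, rfl⟩]
          _ ≤ ∑ p' ∈ (Finset.range p₀).filter Nat.Prime,
                (if (p ^ m) ∈ Set.range (fun m : ℕ => p' ^ m) then
                  c * ((p ^ m : ℕ) : ℝ) ^ ((r : ℝ) - σ) else 0) :=
              Finset.single_le_sum (f := fun p' => (if (p ^ m) ∈ Set.range (fun m : ℕ => p' ^ m)
                then c * ((p ^ m : ℕ) : ℝ) ^ ((r : ℝ) - σ) else 0)) hterm2 hmem
          _ ≤ _ := le_add_of_nonneg_left hterm1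
    · have hempty : {x | N x = q} = ∅ := by
        ext x
        simp only [Set.mem_setOf_eq, Set.mem_empty_iff_false, iff_false]
        intro h
        exact hqpp (h ▸ hpp x)
      rw [hempty, Set.ncard_empty, Nat.cast_zero, zero_mul]
      exact add_nonneg hterm1 (Finset.sum_nonneg hterm2)
  -- fibre over the norm
  rw [← (Equiv.sigmaFiberEquiv N).summable_iff]
  refine (summable_sigma_of_nonneg
    (f := (fun x => (N x : ℝ) ^ (-σ)) ∘ (Equiv.sigmaFiberEquiv N))
    (fun _ => Real.rpow_nonneg (Nat.cast_nonneg _) _)).mpr ?_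
  constructor
  · intro q
    haveI : Finite {x // N x = q} := (hfinq q).to_subtype
    exact Summable.of_finite
  · refine hq.congr (fun q => ?_)
    haveI : Fintype {x // N x = q} := (hfinq q).fintype
    rw [tsum_fintype]
    have h5 : ∀ y : {x // N x = q},
        ((fun x => (N x : ℝ) ^ (-σ)) ∘ (Equiv.sigmaFiberEquiv N)) ⟨q, y⟩ = (q : ℝ) ^ (-σ) := by
      intro y
      have : N (Equiv.sigmaFiberEquiv N ⟨q, y⟩) = q := y.2
      simp only [Function.comp_apply, this]
    rw [Finset.sum_congr rfl (fun y _ => h5 y), Finset.sum_const, nsmul_eq_mul]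
    congr 2
    rw [Finset.card_univ, ← Nat.card_eq_fintype_card]
    exact (Nat.card_coe_set_eq {x | N x = q})

end Groth.Agent.Helper19.ZetaAbs
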