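import Mathlib
import Groth.Agent.Lib.Helper19.ZetaAbs.Cycles

/-!
# The Dirichlet series of effective zero-cycles: convergence and non-vanishing (helper19)
-/

set_option autoImplicit false

namespace Groth.Agent.Helper19.ZetaAbs

open Finset

variable {P : Type*}

/-- Partial sums of `∑_α ∏_x t_x^{α x}` over finitely supported `α` are bounded by
`exp (C ∑ t)`. -/
theorem sum_finsupp_prod_le (t : P → ℝ) (θ : ℝ) (hθ : θ < 1) (ht0 : ∀ x, 0 ≤ t x)
    (htθ : ∀ x, t x ≤ θ) (hsum : Summable t) (T : Finset (P →₀ ℕ)) :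
    ∑ α ∈ T, α.prod (fun x m => t x ^ m) ≤ Real.exp ((1 - θ)⁻¹ * ∑' x, t x) := by
  classical
  set S : Finset P := T.biUnion (fun α => α.support) with hS
  set K : ℕ := T.sup (fun α => α.support.sup α) with hK
  have hsupp : ∀ α ∈ T, α.support ⊆ S := fun α hα =>
    Finset.subset_biUnion_of_mem (fun α : P →₀ ℕ => α.support) hα
  have hval : ∀ α ∈ T, ∀ x, α x ≤ K := by
    intro α hα x
    by_cases hx : x ∈ α.support
    · exact (Finset.le_sup (f := α) hx).trans (Finset.le_sup (f := fun α : P →₀ ℕ =>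
        α.support.sup α) hα)
    · rw [Finsupp.notMem_support_iff.mp hx]
      exact Nat.zero_le _
  have hprod : ∀ α ∈ T, α.prod (fun x m => t x ^ m) = ∏ x ∈ S, t x ^ α x := fun α hα =>
    Finsupp.prod_of_support_subset α (hsupp α hα) _ (fun _ _ => pow_zero _)
  let φ : (P →₀ ℕ) → (∀ x ∈ S, ℕ) := fun α x _ => α x
  have hφinj : Set.InjOn φ (T : Set (P →₀ ℕ)) := by
    intro α hα β hβ h
    ext x
    by_cases hx : x ∈ S
    · exact congrFun (congrFun h x) hx
    · have h1 : x ∉ α.support := fun h' => hx (hsupp α hα h')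
      have h2 : x ∉ β.support := fun h' => hx (hsupp β hβ h')
      rw [Finsupp.notMem_support_iff.mp h1, Finsupp.notMem_support_iff.mp h2]
  have hφmem : ∀ α ∈ T, φ α ∈ S.pi (fun _ => Finset.range (K + 1)) := by
    intro α hα
    rw [Finset.mem_pi]
    intro x _
    rw [Finset.mem_range]
    have := hval α hα x
    change α x < K + 1
    omega
  have h1 : ∑ α ∈ T, α.prod (fun x m => t x ^ m) =
      ∑ p ∈ T.image φ, ∏ x ∈ S.attach, t x.1 ^ p x.1 x.2 := by
    rw [Finset.sum_image hφinj]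
    refine Finset.sum_congr rfl fun α hα => ?_
    rw [hprod α hα]
    exact (Finset.prod_attach S (fun x => t x ^ α x)).symm
  have h2 : ∑ p ∈ T.image φ, ∏ x ∈ S.attach, t x.1 ^ p x.1 x.2 ≤
      ∑ p ∈ S.pi (fun _ => Finset.range (K + 1)), ∏ x ∈ S.attach, t x.1 ^ p x.1 x.2 := by
    refine Finset.sum_le_sum_of_subset_of_nonneg ?_ ?_
    · intro p hp
      obtain ⟨α, hα, rfl⟩ := Finset.mem_image.mp hp
      exact hφmem α hα
    · intro p _ _
      exact Finset.prod_nonneg fun x _ => pow_nonneg (ht0 _) _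
  have h3 : ∑ p ∈ S.pi (fun _ => Finset.range (K + 1)), ∏ x ∈ S.attach, t x.1 ^ p x.1 x.2 =
      ∏ x ∈ S, ∑ k ∈ Finset.range (K + 1), t x ^ k :=
    (Finset.prod_sum S (fun _ => Finset.range (K + 1)) (fun x k => t x ^ k)).symm
  have h4 : ∀ x ∈ S, ∑ k ∈ Finset.range (K + 1), t x ^ k ≤ Real.exp ((1 - θ)⁻¹ * t x) := by
    intro x _
    have hlt : t x < 1 := lt_of_le_of_lt (htθ x) hθ
    have h5 : ∑ k ∈ Finset.range (K + 1), t x ^ k ≤ (1 - t x)⁻¹ := by
      rw [← tsum_geometric_of_lt_one (ht0 x) hlt]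
      exact Summable.sum_le_tsum _ (fun k _ => pow_nonneg (ht0 x) k)
        (summable_geometric_of_lt_one (ht0 x) hlt)
    have h6 : (1 - t x)⁻¹ ≤ 1 + (1 - θ)⁻¹ * t x := by
      have hpos : 0 < 1 - t x := by linarith
      have hposθ : 0 < 1 - θ := by linarith
      rw [inv_le_iff_one_le_mul₀ hpos]
      have h7 : (1 - θ)⁻¹ * (1 - θ) = 1 := inv_mul_cancel₀ hposθ.ne'
      have h8 : 0 ≤ (1 - θ)⁻¹ := inv_nonneg.mpr hposθ.le
      nlinarith [ht0 x, htθ x, mul_nonneg h8 (ht0 x), mul_nonneg (mul_nonneg h8 (ht0 x))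
        (sub_nonneg.mpr (htθ x))]
    have h9 : 1 + (1 - θ)⁻¹ * t x ≤ Real.exp ((1 - θ)⁻¹ * t x) := by
      have := Real.add_one_le_exp ((1 - θ)⁻¹ * t x)
      linarith
    exact h5.trans (h6.trans h9)
  calc ∑ α ∈ T, α.prod (fun x m => t x ^ m)
      ≤ ∏ x ∈ S, ∑ k ∈ Finset.range (K + 1), t x ^ k := by rw [h1, ← h3]; exact h2
    _ ≤ ∏ x ∈ S, Real.exp ((1 - θ)⁻¹ * t x) :=
        Finset.prod_le_prod (fun x _ => Finset.sum_nonneg fun k _ => pow_nonneg (ht0 x) k) h4
    _ = Real.exp ((1 - θ)⁻¹ * ∑ x ∈ S, t x) := by rw [← Real.exp_sum, Finset.mul_sum]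
    _ ≤ Real.exp ((1 - θ)⁻¹ * ∑' x, t x) := by
        apply Real.exp_le_exp.mpr
        have hposθ : 0 < 1 - θ := by linarith
        exact mul_le_mul_of_nonneg_left (hsum.sum_le_tsum S (fun x _ => ht0 x))
          (inv_nonneg.mpr hposθ.le)

open scoped LSeries.notation

section Main

variable {N : P → ℕ} (h2 : ∀ x, 2 ≤ N x) (hfin : ∀ n, {x | N x ≤ n}.Finite)

include h2 in
theorem summable_cycles (σ : ℝ) (hσ : 0 < σ) (hsum : Summable (fun x => (N x : ℝ) ^ (-σ))) :
    Summable (fun α : P →₀ ℕ => (nm N α : ℝ) ^ (-σ)) := by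
  have ht0 : ∀ x, 0 ≤ (N x : ℝ) ^ (-σ) := fun x => Real.rpow_nonneg (Nat.cast_nonneg _) _
  have htθ : ∀ x, (N x : ℝ) ^ (-σ) ≤ (2 : ℝ) ^ (-σ) := fun x =>
    Real.rpow_le_rpow_of_nonpos (by norm_num) (by exact_mod_cast h2 x) (by linarith)
  have hθ : (2 : ℝ) ^ (-σ) < 1 :=
    Real.rpow_lt_one_of_one_lt_of_neg (by norm_num) (by linarith)
  have hw : ∀ α : P →₀ ℕ, (nm N α : ℝ) ^ (-σ) =
      α.prod (fun x m => ((N x : ℝ) ^ (-σ)) ^ m) := by
    intro α
    unfold nm Finsupp.prod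
    push_cast
    rw [← Real.finset_prod_rpow _ _ (fun x _ => by positivity)]
    refine Finset.prod_congr rfl fun x _ => ?_
    rw [← Real.rpow_natCast, ← Real.rpow_natCast, ← Real.rpow_mul (Nat.cast_nonneg _),
      ← Real.rpow_mul (Nat.cast_nonneg _), mul_comm]
  refine summable_of_sum_le
    (c := Real.exp (((1 : ℝ) - (2 : ℝ) ^ (-σ))⁻¹ * ∑' x, (N x : ℝ) ^ (-σ)))
    (fun α => Real.rpow_nonneg (Nat.cast_nonneg _) _) (fun T => ?_)
  simp_rw [hw]
  exact sum_finsupp_prod_le (fun x => (N x : ℝ) ^ (-σ)) _ hθ ht0 htθ hsum T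

/-- The coefficients: number of cycles of norm `n`. -/
noncomputable def aco (n : ℕ) : ℂ := ((fib h2 hfin n).card : ℂ)

/-- The coefficients of the inverse series. -/
noncomputable def bcoC (n : ℕ) : ℂ := ((bco h2 hfin n : ℤ) : ℂ)

theorem summable_card_fib (σ : ℝ) (hσ : 0 < σ)
    (hsum : Summable (fun x => (N x : ℝ) ^ (-σ))) :
    Summable (fun n : ℕ => ((fib h2 hfin n).card : ℝ) * (n : ℝ) ^ (-σ)) := by
  have h1 := summable_cycles h2 σ hσ hsum
  have h3 : Summable (fun q : (Σ n : ℕ, {α : P →₀ ℕ // nm N α = n}) =>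
      (nm N (Equiv.sigmaFiberEquiv (nm N) q) : ℝ) ^ (-σ)) :=
    ((Equiv.sigmaFiberEquiv (nm N)).summable_iff
      (f := fun α : P →₀ ℕ => (nm N α : ℝ) ^ (-σ))).mpr h1
  have h4 := h3.sigma
  refine h4.congr (fun n => ?_)
  haveI : Fintype {α : P →₀ ℕ // nm N α = n} := (fib_finite h2 hfin n).fintype
  rw [tsum_fintype]
  have h5 : ∀ c : {α : P →₀ ℕ // nm N α = n},
      (nm N (Equiv.sigmaFiberEquiv (nm N) ⟨n, c⟩) : ℝ) ^ (-σ) = (n : ℝ) ^ (-σ) := by
    intro c
    have : nm N (Equiv.sigmaFiberEquiv (nm N) ⟨n, c⟩) = n := c.2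
    rw [this]
  rw [Finset.sum_congr rfl (fun c _ => h5 c), Finset.sum_const, nsmul_eq_mul]
  congr 2
  rw [Finset.card_univ, ← Nat.card_eq_fintype_card, ← card_fib]

theorem lseriesSummable_aco (s : ℂ) (hs : 0 < s.re)
    (hsum : Summable (fun x => (N x : ℝ) ^ (-s.re))) :
    LSeriesSummable (aco h2 hfin) s := by
  have h1 := summable_card_fib h2 hfin s.re hs hsum
  refine Summable.of_norm ?_
  refine h1.congr (fun n => ?_)
  rw [LSeries.norm_term_eq]
  split_ifs with hn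
  · subst hn
    rw [Nat.cast_zero, Real.zero_rpow (by linarith : -s.re ≠ 0), mul_zero]
  · rw [aco, Complex.norm_natCast, Real.rpow_neg (Nat.cast_nonneg n), div_eq_mul_inv]

theorem lseriesSummable_bcoC (s : ℂ) (hs : 0 < s.re)
    (hsum : Summable (fun x => (N x : ℝ) ^ (-s.re))) :
    LSeriesSummable (bcoC h2 hfin) s := by
  have h1 := (lseriesSummable_aco h2 hfin s hs hsum).norm
  refine Summable.of_norm_bounded h1 (fun n => ?_)
  refine LSeries.norm_term_le s ?_
  rw [aco, bcoC, Complex.norm_natCast, Complex.norm_intCast]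
  exact_mod_cast abs_bco_le h2 hfin n

theorem convolution_eq_delta :
    LSeries.convolution (aco h2 hfin) (bcoC h2 hfin) = LSeries.delta := by
  funext n
  by_cases hn : n = 0
  · subst hn
    rw [LSeries.convolution_map_zero]
    simp [LSeries.delta]
  · rw [LSeries.convolution_def]
    have h := conv_identity h2 hfin n hn
    simp only [aco, bcoC, LSeries.delta]
    have h' : ((∑ de ∈ n.divisorsAntidiagonal,
        ((fib h2 hfin de.1).card : ℤ) * bco h2 hfin de.2 : ℤ) : ℂ) =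
        ((if n = 1 then 1 else 0 : ℤ) : ℂ) := by rw [h]
    push_cast at h'
    rw [h']

/-- **Non-vanishing of the Dirichlet series of effective zero-cycles** in the half-plane of
convergence of `∑ N(x)^{-s}`. -/
theorem lseries_aco_ne_zero (s : ℂ) (hs : 0 < s.re)
    (hsum : Summable (fun x => (N x : ℝ) ^ (-s.re))) :
    LSeries (aco h2 hfin) s ≠ 0 := by
  have ha := lseriesSummable_aco h2 hfin s hs hsum
  have hb := lseriesSummable_bcoC h2 hfin s hs hsum
  have h := LSeries_convolution' ha hb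
  rw [convolution_eq_delta, LSeries_delta] at h
  intro h0
  rw [h0, zero_mul] at h
  exact one_ne_zero h

end Main

end Groth.Agent.Helper19.ZetaAbs
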