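import Mathlib
import Groth.Prelude.Def_W4c1zetahwZeta
import Groth.Agent.Lib.Helper19.ZetaAbs.Series
import Groth.Agent.Lib.Helper19.ZetaAbs.PointSum

/-!
# Zero-cycles on a scheme: reduction to the abstract setting (helper19)
-/

set_option autoImplicit false

open CategoryTheory AlgebraicGeometry

namespace Groth.Agent.Helper19.ZetaAbs

universe u

variable (X : Scheme.{u})

/-- Closed points with finite residue field. -/
abbrev GoodPt : Type u :=
  {x : X // IsClosed ({x} : Set X) ∧ Nat.card (X.residueField x) ≠ 0}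

/-- The norm of a closed point with finite residue field. -/
noncomputable def Nrm (x : GoodPt X) : ℕ := Nat.card (X.residueField x.1)

theorem two_le_Nrm (x : GoodPt X) : 2 ≤ Nrm X x := by
  haveI : Finite (X.residueField x.1) := Nat.finite_of_card_ne_zero x.2.2
  exact Finite.one_lt_card

theorem isPrimePow_Nrm (x : GoodPt X) : IsPrimePow (Nrm X x) := by
  haveI : Finite (X.residueField x.1) := Nat.finite_of_card_ne_zero x.2.2
  haveI := Fintype.ofFinite (X.residueField x.1)
  have := FiniteField.isPrimePow_card (X.residueField x.1)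
  rwa [← Nat.card_eq_fintype_card] at this

open scoped Classical in
/-- For `n ≠ 0`, the cycles of norm `n` are supported on the good points. -/
theorem cycleNormCount_eq (n : ℕ) (hn : n ≠ 0) :
    Zeta.cycleNormCount X n = Nat.card {α : GoodPt X →₀ ℕ // nm (Nrm X) α = n} := by
  unfold Zeta.cycleNormCount
  refine Nat.card_congr ?_
  have hgood : ∀ α : X →₀ ℕ, (∀ x ∈ α.support, IsClosed ({x} : Set X)) →
      α.prod (fun x m => Nat.card (X.residueField x) ^ m) = n →
      ∀ x ∈ α.support, IsClosed ({x} : Set X) ∧ Nat.card (X.residueField x) ≠ 0 := by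
    intro α hcl hprod x hx
    refine ⟨hcl x hx, fun h0 => hn ?_⟩
    rw [← hprod]
    unfold Finsupp.prod
    apply Finset.prod_eq_zero hx
    change Nat.card (X.residueField x) ^ α x = 0
    rw [h0]
    exact zero_pow (Finsupp.mem_support_iff.mp hx)
  refine
    { toFun := fun α => ⟨Finsupp.subtypeDomain
          (fun x : X => IsClosed ({x} : Set X) ∧ Nat.card (X.residueField x) ≠ 0) α.1, ?_⟩
      invFun := fun β => ⟨Finsupp.extendDomain β.1, ?_, ?_⟩
      left_inv := ?_
      right_inv := ?_ }
  · have := Finsupp.prod_subtypeDomain_index (v := α.1)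
      (h := fun x m => Nat.card (X.residueField x) ^ m) (hgood α.1 α.2.1 α.2.2)
    unfold nm Nrm
    rw [this]
    exact α.2.2
  · intro x hx
    exact (Finsupp.support_extendDomain_subset β.1 hx).1
  · have h1 : ∀ x ∈ (Finsupp.extendDomain β.1 : X →₀ ℕ).support,
        IsClosed ({x} : Set X) ∧ Nat.card (X.residueField x) ≠ 0 :=
      fun x hx => Finsupp.support_extendDomain_subset β.1 hx
    have := Finsupp.prod_subtypeDomain_index (v := (Finsupp.extendDomain β.1 : X →₀ ℕ))
      (h := fun x m => Nat.card (X.residueField x) ^ m) h1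
    rw [← this, Finsupp.subtypeDomain_extendDomain]
    exact β.2
  · intro α
    apply Subtype.ext
    exact Finsupp.extendDomain_subtypeDomain α.1 (hgood α.1 α.2.1 α.2.2)
  · intro β
    apply Subtype.ext
    exact Finsupp.subtypeDomain_extendDomain β.1

/-- Points of norm `q` inject into the `F`-valued points, `F` a field with `q` elements. -/
theorem finite_and_ncard_le (F : Type u) [Field F]
    (hfinHom : Finite (Spec (CommRingCat.of F) ⟶ X)) (q : ℕ) (hq : Nat.card F = q)
    (hq0 : q ≠ 0) :
    {x : GoodPt X | Nrm X x = q}.Finite ∧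
      {x : GoodPt X | Nrm X x = q}.ncard ≤ Nat.card (Spec (CommRingCat.of F) ⟶ X) := by
  haveI : Finite F := Nat.finite_of_card_ne_zero (hq ▸ hq0)
  have hiso : ∀ x : {x : GoodPt X // Nrm X x = q}, Nonempty (X.residueField x.1.1 ≃+* F) := by
    intro x
    haveI : Finite (X.residueField x.1.1) := Nat.finite_of_card_ne_zero x.1.2.2
    haveI := Fintype.ofFinite (X.residueField x.1.1)
    haveI := Fintype.ofFinite F
    refine ⟨FiniteField.ringEquivOfCardEq (K := X.residueField x.1.1) (K' := F) ?_⟩
    rw [← Nat.card_eq_fintype_card, ← Nat.card_eq_fintype_card, hq]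
    exact x.2
  let Φ : {x : GoodPt X // Nrm X x = q} → (Spec (CommRingCat.of F) ⟶ X) := fun x =>
    Spec.map (CommRingCat.ofHom ((hiso x).some : X.residueField x.1.1 →+* F)) ≫
      X.fromSpecResidueField x.1.1
  have hΦ : Function.Injective Φ := by
    intro x x' h
    let pt : Spec (CommRingCat.of F) := (⊥ : PrimeSpectrum F)
    have h1 : (Φ x) pt = (Φ x') pt := by rw [h]
    simp only [Φ, Scheme.Hom.comp_apply] at h1
    rw [Scheme.fromSpecResidueField_apply, Scheme.fromSpecResidueField_apply] at h1
    exact Subtype.ext (Subtype.ext h1)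
  refine ⟨Set.finite_coe_iff.mp (Finite.of_injective Φ hΦ), ?_⟩
  rw [← Nat.card_coe_set_eq]
  exact Nat.card_le_card_of_injective Φ hΦ

end Groth.Agent.Helper19.ZetaAbs
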