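import Mathlib
import Groth.Agent.Lib.Helper19.ZetaAbs.SchemeCycles

/-!
# Convergence and non-vanishing of the zeta function of a scheme from point-count bounds
(helper19)
-/

set_option autoImplicit false

open CategoryTheory AlgebraicGeometry

namespace Groth.Agent.Helper19.ZetaAbs

universe u

/-- If the number of points of `X` with values in a field with `p^m` elements is `≤ c p^{m(r-1)}`
for `p ≥ p₀` and `≤ c p^{mr}` for all `p`, then the zeta function of `X` converges absolutely for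
`Re s > r` and does not vanish there. -/
theorem zeta_main (X : Scheme.{u}) (r : ℕ) (c : ℝ) (p₀ : ℕ) (hc : 0 ≤ c)
    (hbound : ∀ p m : ℕ, p.Prime → 1 ≤ m → ∃ (F : Type u) (_ : Field F),
      Nat.card F = p ^ m ∧ Finite (Spec (CommRingCat.of F) ⟶ X) ∧
        (p₀ ≤ p → (Nat.card (Spec (CommRingCat.of F) ⟶ X) : ℝ) ≤
          c * ((p ^ m : ℕ) : ℝ) ^ ((r : ℝ) - 1)) ∧
        (Nat.card (Spec (CommRingCat.of F) ⟶ X) : ℝ) ≤ c * ((p ^ m : ℕ) : ℝ) ^ (r : ℝ)) :
    LSeries.abscissaOfAbsConv (Zeta.arithCoeff X) ≤ (r : ℝ) ∧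
      ∀ s : ℂ, (r : ℝ) < s.re → LSeries (Zeta.arithCoeff X) s ≠ 0 := by
  have h2 := two_le_Nrm X
  have hpp := isPrimePow_Nrm X
  have hpt : ∀ p m : ℕ, p.Prime → 1 ≤ m →
      {x : GoodPt X | Nrm X x = p ^ m}.Finite ∧
      (p₀ ≤ p → ({x : GoodPt X | Nrm X x = p ^ m}.ncard : ℝ) ≤
          c * ((p ^ m : ℕ) : ℝ) ^ ((r : ℝ) - 1)) ∧
      ({x : GoodPt X | Nrm X x = p ^ m}.ncard : ℝ) ≤ c * ((p ^ m : ℕ) : ℝ) ^ (r : ℝ) := by
    intro p m hp hm
    obtain ⟨F, _, hF, hfin, hb1, hb2⟩ := hbound p m hp hm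
    obtain ⟨h3, h4⟩ := finite_and_ncard_le X F hfin (p ^ m) hF (pow_pos hp.pos m).ne'
    have h5 : ({x : GoodPt X | Nrm X x = p ^ m}.ncard : ℝ) ≤
        (Nat.card (Spec (CommRingCat.of F) ⟶ X) : ℝ) := by exact_mod_cast h4
    exact ⟨h3, fun hp₀ => h5.trans (hb1 hp₀), h5.trans hb2⟩
  have hfinq : ∀ q : ℕ, {x : GoodPt X | Nrm X x = q}.Finite := by
    intro q
    by_cases hq : IsPrimePow q
    · obtain ⟨p, m, hp, hm, rfl⟩ := (isPrimePow_nat_iff q).mp hq
      exact (hpt p m hp hm).1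
    · have : {x : GoodPt X | Nrm X x = q} = ∅ := by
        ext x
        simp only [Set.mem_setOf_eq, Set.mem_empty_iff_false, iff_false]
        intro h
        exact hq (h ▸ hpp x)
      rw [this]
      exact Set.finite_empty
  have hfin := finite_le_of_finite_eq (Nrm X) hfinq
  have key : ∀ s : ℂ, (r : ℝ) < s.re →
      LSeriesSummable (Zeta.arithCoeff X) s ∧ LSeries (Zeta.arithCoeff X) s ≠ 0 := by
    intro s hs
    have hs0 : 0 < s.re := lt_of_le_of_lt (Nat.cast_nonneg r) hs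
    have hsum := summable_norm_rpow (Nrm X) r c p₀ hc hpp hfinq
      (fun p m hp hm hp₀ => (hpt p m hp hm).2.1 hp₀) (fun p m hp hm => (hpt p m hp hm).2.2)
      s.re hs
    have hcongr : ∀ {n : ℕ}, n ≠ 0 → Zeta.arithCoeff X n = aco h2 hfin n := by
      intro n hn
      unfold Zeta.arithCoeff aco
      rw [cycleNormCount_eq X n hn, card_fib]
    constructor
    · rw [LSeriesSummable_congr s hcongr]
      exact lseriesSummable_aco h2 hfin s hs0 hsum
    · rw [LSeries_congr hcongr s]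
      exact lseries_aco_ne_zero h2 hfin s hs0 hsum
  refine ⟨?_, fun s hs => (key s hs).2⟩
  refine LSeries.abscissaOfAbsConv_le_of_forall_lt_LSeriesSummable (fun y hy => ?_)
  exact (key (y : ℂ) (by simpa using hy)).1

/-- A field with `p ^ m` elements in any universe. -/
theorem exists_field_card (p m : ℕ) (hp : p.Prime) (hm : 1 ≤ m) :
    ∃ (F : Type u) (_ : Field F), Nat.card F = p ^ m := by
  haveI : Fact p.Prime := ⟨hp⟩
  refine ⟨ULift.{u} (GaloisField p m), inferInstance, ?_⟩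
  rw [Nat.card_congr Equiv.ulift]
  exact GaloisField.card p m (by omega)

end Groth.Agent.Helper19.ZetaAbs
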